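import Groth.Agent.Vancyc.H685.StdModel
import Groth.Agent.Vancyc.H694.StdT
import Mathlib.AlgebraicGeometry.Pullbacks
import Mathlib.RingTheory.DiscreteValuationRing.Basic
import Mathlib.RingTheory.Henselian
import Mathlib.FieldTheory.IsSepClosed
import Mathlib.Tactic.LinearCombination
import Mathlib.Tactic.FieldSimp
import Mathlib.Tactic.Ring

/-!
# The geometric generic fibre of the even model is the standard quadric

* `exists_iso`: if `α + β = -b`, `α β = c`, `α ≠ β` in `Ω`, the base change to `Ω` of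
  `x_0² + b x_0 + c + ∑ x_i x_{m+i} = 0` is isomorphic to the base change of `∑ x_i y_i = s (1 - s)`, and the
  isomorphism intertwines the actions of an automorphism `σ` fixing `α` and `β`; when `σ` exchanges `α` and `β`
  it intertwines them up to the involution `s ↦ 1 - s`.
* `quadChar_pow`, `exists_sq`: square roots of `w t ^ v` over a strictly henselian trait.
-/

set_option autoImplicit false
universe u
open CategoryTheory CategoryTheory.Limits AlgebraicGeometry
namespace Groth.Agent.Vancyc.H178.QuadFib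
open Groth.Agent.Vancyc.H685 Groth.Agent.Vancyc.H685.StdModel Groth.Agent.Vancyc.H694.StdT
open scoped TensorProduct

/-! ### Homomorphisms out of the two coordinate rings -/

section Rings

variable (R : Type u) [CommRing R] (m : ℕ)

/-- the coordinate `x_i` of the standard quadric -/
noncomputable def sx (i : Fin m) : stdRing R m :=
  algebraMap (MvPolynomial (Fin m) R) (stdRing R m) (MvPolynomial.X i)

/-- the coordinate `y_i` of the standard quadric -/
noncomputable def sy (i : Fin m) : stdRing R m := QuadAlg.y _ _ i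

/-- the coordinate `s` of the standard quadric -/
noncomputable def ss : stdRing R m := QuadAlg.s _ _

theorem std_rel : ∑ i, sx R m i * sy R m i = ss R m * (1 - ss R m) :=
  QuadAlg.relation (MvPolynomial (Fin m) R) (fun i : Fin m => MvPolynomial.X i)

variable {R m}

theorem std_ext {D : Type u} [CommRing D] [Algebra R D] {f g : stdRing R m →ₐ[R] D}
    (hx : ∀ i, f (sx R m i) = g (sx R m i)) (hy : ∀ i, f (sy R m i) = g (sy R m i))
    (hs : f (ss R m) = g (ss R m)) : f = g := by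
  have h : (f : stdRing R m →+* D) = (g : stdRing R m →+* D) := by
    apply Ideal.Quotient.ringHom_ext
    apply MvPolynomial.ringHom_ext
    · intro p
      have h2 : ((f : stdRing R m →+* D).comp (algebraMap (MvPolynomial (Fin m) R) (stdRing R m))) =
          ((g : stdRing R m →+* D).comp (algebraMap (MvPolynomial (Fin m) R) (stdRing R m))) := by
        apply MvPolynomial.ringHom_ext
        · intro r
          have e : algebraMap (MvPolynomial (Fin m) R) (stdRing R m) (MvPolynomial.C r) =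
              algebraMap R (stdRing R m) r := rfl
          rw [RingHom.comp_apply, RingHom.comp_apply, e]
          exact (f.commutes r).trans (g.commutes r).symm
        · exact hx
      exact RingHom.congr_fun h2 p
    · intro o
      cases o with
      | none => exact hs
      | some i => exact hy i
  exact AlgHom.coe_ringHom_injective h

/-- Homomorphisms out of the coordinate ring of the standard quadric. -/
theorem std_lift {D : Type u} [CommRing D] [Algebra R D] (x y : Fin m → D) (s : D)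
    (h : ∑ i, x i * y i = s * (1 - s)) :
    ∃ f : stdRing R m →ₐ[R] D, (∀ i, f (sx R m i) = x i) ∧ (∀ i, f (sy R m i) = y i) ∧
      f (ss R m) = s := by
  let : Algebra (MvPolynomial (Fin m) R) D :=
    (MvPolynomial.aeval x : MvPolynomial (Fin m) R →ₐ[R] D).toRingHom.toAlgebra
  have : IsScalarTower R (MvPolynomial (Fin m) R) D :=
    IsScalarTower.of_algebraMap_eq fun r => ((MvPolynomial.aeval x).commutes r).symm
  have hX : ∀ i, algebraMap (MvPolynomial (Fin m) R) D (MvPolynomial.X i) = x i := fun i =>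
    MvPolynomial.aeval_X x i
  have h' : ∑ i, algebraMap (MvPolynomial (Fin m) R) D (MvPolynomial.X i) * y i = s * (1 - s) := by
    rw [← h]
    exact Finset.sum_congr rfl fun i _ => by rw [hX]
  refine ⟨(QuadAlg.lift y s h').restrictScalars R, fun i => ?_, fun i => ?_, ?_⟩
  · exact ((QuadAlg.lift y s h').commutes (MvPolynomial.X i)).trans (hX i)
  · exact QuadAlg.lift_y y s h' i
  · exact QuadAlg.lift_s y s h'

end Rings

set_option linter.unusedSectionVars false

section Deg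

variable (R : Type u) [CommRing R] [IsLocalRing R] (m : ℕ) (b c : R)

/-- the coordinates of the even model -/
noncomputable def dx (j : Fin (2 * m + 1)) : VanCyc.degQuadRing R (stdT R m) b c :=
  Ideal.Quotient.mk _ (MvPolynomial.X j)

theorem aeval_degQuadPoly {D : Type u} [CommRing D] [Algebra R D] (z : Fin (2 * m + 1) → D) :
    MvPolynomial.aeval z (VanCyc.degQuadPoly R (stdT R m) b c) =
      z 0 ^ 2 + algebraMap R D b * z 0 + algebraMap R D c +
        ∑ i, z (Fin.succ (lo m i)) * z (Fin.succ (hi m i)) := by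
  unfold VanCyc.degQuadPoly
  rw [quadPoly_stdT]
  simp only [map_add, map_mul, map_pow, map_sum, MvPolynomial.aeval_X, MvPolynomial.aeval_C,
    MvPolynomial.rename_X]

theorem deg_rel : dx R m b c 0 ^ 2 + algebraMap R _ b * dx R m b c 0 + algebraMap R _ c +
    ∑ i, dx R m b c (Fin.succ (lo m i)) * dx R m b c (Fin.succ (hi m i)) = 0 := by
  rw [← aeval_degQuadPoly]
  have h : (MvPolynomial.aeval (dx R m b c) : _ →ₐ[R] VanCyc.degQuadRing R (stdT R m) b c) =
      Ideal.Quotient.mkₐ R (Ideal.span {VanCyc.degQuadPoly R (stdT R m) b c}) := by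
    apply MvPolynomial.algHom_ext
    intro j
    rw [MvPolynomial.aeval_X]
    rfl
  rw [h]
  exact Ideal.Quotient.eq_zero_iff_mem.2 (Ideal.subset_span rfl)

variable {R m b c}

theorem deg_ext {D : Type u} [CommRing D] [Algebra R D]
    {f g : VanCyc.degQuadRing R (stdT R m) b c →ₐ[R] D} (h0 : f (dx R m b c 0) = g (dx R m b c 0))
    (hl : ∀ i, f (dx R m b c (Fin.succ (lo m i))) = g (dx R m b c (Fin.succ (lo m i))))
    (hh : ∀ i, f (dx R m b c (Fin.succ (hi m i))) = g (dx R m b c (Fin.succ (hi m i)))) : f = g := by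
  apply Ideal.Quotient.algHom_ext
  apply MvPolynomial.algHom_ext
  intro j
  refine Fin.cases ?_ (fun j => ?_) j
  · exact h0
  · rcases eq_lo_or_hi j with ⟨i, rfl⟩ | ⟨i, rfl⟩
    · exact hl i
    · exact hh i

/-- Homomorphisms out of the coordinate ring of the even model. -/
theorem deg_lift {D : Type u} [CommRing D] [Algebra R D] (z : Fin (2 * m + 1) → D)
    (h : z 0 ^ 2 + algebraMap R D b * z 0 + algebraMap R D c +
        ∑ i, z (Fin.succ (lo m i)) * z (Fin.succ (hi m i)) = 0) :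
    ∃ f : VanCyc.degQuadRing R (stdT R m) b c →ₐ[R] D, ∀ j, f (dx R m b c j) = z j := by
  rw [← aeval_degQuadPoly R m b c z] at h
  have hk : Ideal.span {VanCyc.degQuadPoly R (stdT R m) b c} ≤
      RingHom.ker (MvPolynomial.aeval (R := R) z) := by
    rw [Ideal.span_le, Set.singleton_subset_iff]
    exact h
  refine ⟨Ideal.Quotient.liftₐ _ (MvPolynomial.aeval z) fun a ha => hk ha, fun j => ?_⟩
  exact MvPolynomial.aeval_X z j

end Deg

/-! ### The isomorphism of coordinate rings over `Ω` -/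

section Core

variable {R : Type u} [CommRing R] [IsLocalRing R] {Ω : Type u} [Field Ω] [Algebra R Ω]
  {m : ℕ} {b c : R} {D : Type u} [CommRing D] [Algebra R D]

theorem theta_core (κ : VanCyc.degQuadRing R (stdT R m) b c →ₐ[R] D) (ι : Ω →ₐ[R] D)
    (α β : Ω) (h1 : α + β = - algebraMap R Ω b) (h2 : α * β = algebraMap R Ω c) (h3 : α ≠ β) :
    ∃ f : stdRing R m →ₐ[R] D,
      (∀ i, f (sx R m i) = κ (dx R m b c (Fin.succ (lo m i))) * ι (β - α)⁻¹ ^ 2) ∧
      (∀ i, f (sy R m i) = κ (dx R m b c (Fin.succ (hi m i)))) ∧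
      f (ss R m) = κ (dx R m b c 0) * ι (β - α)⁻¹ - ι (α * (β - α)⁻¹) := by
  have hd : β - α ≠ 0 := sub_ne_zero.2 (Ne.symm h3)
  set e : Ω := (β - α)⁻¹ with he
  have hde : (β - α) * e = 1 := mul_inv_cancel₀ hd
  have hrel : κ (dx R m b c 0) ^ 2 + algebraMap R D b * κ (dx R m b c 0) + algebraMap R D c +
      ∑ i, κ (dx R m b c (Fin.succ (lo m i))) * κ (dx R m b c (Fin.succ (hi m i))) = 0 := by
    have h := congrArg κ (deg_rel R m b c)
    rw [map_add, map_add, map_add, map_mul, map_pow, map_sum, map_zero, κ.commutes, κ.commutes] at h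
    simpa only [map_mul] using h
  have hb : algebraMap R D b = - (ι α + ι β) := by
    rw [← ι.commutes, ← map_add, h1, map_neg, neg_neg]
  have hc : algebraMap R D c = ι α * ι β := by
    rw [← ι.commutes, ← map_mul, h2]
  have hde' : (ι β - ι α) * ι e = 1 := by
    rw [← map_sub, ← map_mul, hde, map_one]
  have key : ∑ i, (κ (dx R m b c (Fin.succ (lo m i))) * ι e ^ 2) * κ (dx R m b c (Fin.succ (hi m i))) =
      ((κ (dx R m b c 0) - ι α) * ι e) * (1 - (κ (dx R m b c 0) - ι α) * ι e) := by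
    have h : ∑ i, (κ (dx R m b c (Fin.succ (lo m i))) * ι e ^ 2) * κ (dx R m b c (Fin.succ (hi m i))) =
        ι e ^ 2 * ∑ i, κ (dx R m b c (Fin.succ (lo m i))) * κ (dx R m b c (Fin.succ (hi m i))) := by
      rw [Finset.mul_sum]
      exact Finset.sum_congr rfl fun i _ => by ring
    rw [h]
    rw [hb, hc] at hrel
    linear_combination (ι e ^ 2) * hrel + ((κ (dx R m b c 0) - ι α) * ι e) * hde'
  obtain ⟨f, fx, fy, fs⟩ := std_lift (R := R) (m := m)
    (fun i => κ (dx R m b c (Fin.succ (lo m i))) * ι e ^ 2)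
    (fun i => κ (dx R m b c (Fin.succ (hi m i)))) ((κ (dx R m b c 0) - ι α) * ι e) key
  exact ⟨f, fx, fy, by rw [fs, sub_mul, map_mul]⟩

theorem eta_core (κ : stdRing R m →ₐ[R] D) (ι : Ω →ₐ[R] D)
    (α β : Ω) (h1 : α + β = - algebraMap R Ω b) (h2 : α * β = algebraMap R Ω c) :
    ∃ f : VanCyc.degQuadRing R (stdT R m) b c →ₐ[R] D,
      (∀ i, f (dx R m b c (Fin.succ (lo m i))) = κ (sx R m i) * ι (β - α) ^ 2) ∧
      (∀ i, f (dx R m b c (Fin.succ (hi m i))) = κ (sy R m i)) ∧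
      f (dx R m b c 0) = ι α + κ (ss R m) * ι (β - α) := by
  let z : Fin (2 * m + 1) → D := Fin.cases (ι α + κ (ss R m) * ι (β - α)) (fun j =>
    if h : (j : ℕ) < m then κ (sx R m ⟨j, h⟩) * ι (β - α) ^ 2 else κ (sy R m ⟨j - m, by omega⟩))
  have hz0 : z 0 = ι α + κ (ss R m) * ι (β - α) := rfl
  have hzl : ∀ i, z (Fin.succ (lo m i)) = κ (sx R m i) * ι (β - α) ^ 2 := by
    intro i
    have h : ((lo m i : Fin (2 * m)) : ℕ) < m := i.2
    exact dif_pos h
  have hzh : ∀ i, z (Fin.succ (hi m i)) = κ (sy R m i) := by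
    intro i
    have h : ¬ ((hi m i : Fin (2 * m)) : ℕ) < m := by simp [hi]
    refine (dif_neg h).trans ?_
    congr 2
    exact Fin.ext (by simp)
  have hrel : ∑ i, κ (sx R m i) * κ (sy R m i) = κ (ss R m) * (1 - κ (ss R m)) := by
    have h := congrArg κ (std_rel R m)
    rw [map_mul, map_sum, map_sub, map_one] at h
    simpa only [map_mul] using h
  have hb : algebraMap R D b = - (ι α + ι β) := by
    rw [← ι.commutes, ← map_add, h1, map_neg, neg_neg]
  have hc : algebraMap R D c = ι α * ι β := by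
    rw [← ι.commutes, ← map_mul, h2]
  have key : z 0 ^ 2 + algebraMap R D b * z 0 + algebraMap R D c +
        ∑ i, z (Fin.succ (lo m i)) * z (Fin.succ (hi m i)) = 0 := by
    have h : ∑ i, z (Fin.succ (lo m i)) * z (Fin.succ (hi m i)) =
        ι (β - α) ^ 2 * ∑ i, κ (sx R m i) * κ (sy R m i) := by
      rw [Finset.mul_sum]
      exact Finset.sum_congr rfl fun i _ => by rw [hzl, hzh]; ring
    rw [h, hrel, hz0, hb, hc, map_sub]
    ring
  obtain ⟨f, hf⟩ := deg_lift (R := R) (m := m) (b := b) (c := c) z key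
  exact ⟨f, fun i => (hf _).trans (hzl i), fun i => (hf _).trans (hzh i), (hf _).trans hz0⟩

end Core

section Theta

variable {R : Type u} [CommRing R] {Ω : Type u} [CommRing Ω] [Algebra R Ω]
  {A B : Type u} [CommRing A] [Algebra R A] [CommRing B] [Algebra R B]

/-- Homomorphisms out of `A ⊗ Ω`. -/
theorem tensor_lift (f : A →ₐ[R] B ⊗[R] Ω) :
    ∃ g : A ⊗[R] Ω →ₐ[R] B ⊗[R] Ω, (∀ a, g (a ⊗ₜ 1) = f a) ∧ (∀ w, g (1 ⊗ₜ w) = 1 ⊗ₜ w) := by
  refine ⟨Algebra.TensorProduct.lift f Algebra.TensorProduct.includeRight fun _ _ => mul_comm _ _,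
    fun a => ?_, fun w => ?_⟩
  · rw [Algebra.TensorProduct.lift_tmul, map_one, mul_one]
  · rw [Algebra.TensorProduct.lift_tmul, map_one, one_mul]
    rfl

/-- The base change of a morphism of `R`-algebras. -/
noncomputable def bcMap (φ : A →ₐ[R] B) (ψ : Ω →ₐ[R] Ω) : A ⊗[R] Ω →ₐ[R] B ⊗[R] Ω :=
  Algebra.TensorProduct.map φ ψ

theorem bcMap_left (φ : A →ₐ[R] B) (ψ : Ω →ₐ[R] Ω) (a : A) : bcMap φ ψ (a ⊗ₜ 1) = φ a ⊗ₜ 1 := by
  unfold bcMap
  rw [Algebra.TensorProduct.map_tmul, map_one]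

theorem bcMap_right (φ : A →ₐ[R] B) (ψ : Ω →ₐ[R] Ω) (w : Ω) :
    bcMap φ ψ (1 ⊗ₜ w) = 1 ⊗ₜ ψ w := by
  unfold bcMap
  rw [Algebra.TensorProduct.map_tmul, map_one]

end Theta

/-! ### Fibres of affine schemes -/

section Sch

variable {R : Type u} [CommRing R] {Ω : Type u} [Field Ω] [Algebra R Ω]
  {A B C : Type u} [CommRing A] [Algebra R A] [CommRing B] [Algebra R B] [CommRing C] [Algebra R C]

/-- The morphism of fibres defined by a homomorphism of their coordinate rings. -/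
noncomputable def fibMap (g : B ⊗[R] Ω →ₐ[R] A ⊗[R] Ω) :
    VanCyc.fib R (Spec.map (CommRingCat.ofHom (algebraMap R A))) Ω ⟶
      VanCyc.fib R (Spec.map (CommRingCat.ofHom (algebraMap R B))) Ω :=
  (pullbackSpecIso R A Ω).hom ≫ Spec.map (CommRingCat.ofHom (g : B ⊗[R] Ω →+* A ⊗[R] Ω)) ≫
    (pullbackSpecIso R B Ω).inv

theorem fibMap_comp (g : B ⊗[R] Ω →ₐ[R] A ⊗[R] Ω) (h : C ⊗[R] Ω →ₐ[R] B ⊗[R] Ω) :
    fibMap g ≫ fibMap h = fibMap (g.comp h) := by
  unfold fibMap
  simp only [Category.assoc, Iso.inv_hom_id_assoc]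
  rw [← Spec.map_comp_assoc, ← CommRingCat.ofHom_comp]
  rfl

theorem fibMap_id : fibMap (AlgHom.id R (A ⊗[R] Ω)) = 𝟙 _ := by
  unfold fibMap
  have h : Spec.map (CommRingCat.ofHom ((AlgHom.id R (A ⊗[R] Ω) : A ⊗[R] Ω →ₐ[R] A ⊗[R] Ω) :
      A ⊗[R] Ω →+* A ⊗[R] Ω)) = 𝟙 _ := Spec.map_id _
  rw [h, Category.id_comp, Iso.hom_inv_id]

theorem fibMap_snd (g : B ⊗[R] Ω →ₐ[R] A ⊗[R] Ω) (hg : ∀ w : Ω, g (1 ⊗ₜ w) = 1 ⊗ₜ w) :
    fibMap g ≫ pullback.snd _ _ = pullback.snd _ _ := by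
  unfold fibMap
  rw [Category.assoc, Category.assoc, pullbackSpecIso_inv_snd, ← Spec.map_comp,
    ← CommRingCat.ofHom_comp]
  rw [← pullbackSpecIso_hom_snd]
  congr 3
  ext w
  exact hg w

theorem eq_fibMap (u : VanCyc.fib R (Spec.map (CommRingCat.ofHom (algebraMap R A))) Ω ⟶
      VanCyc.fib R (Spec.map (CommRingCat.ofHom (algebraMap R B))) Ω)
    (φ : B →ₐ[R] A) (ψ : Ω →ₐ[R] Ω)
    (h1 : u ≫ pullback.fst _ _ = pullback.fst _ _ ≫ Spec.map (CommRingCat.ofHom (φ : B →+* A)))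
    (h2 : u ≫ pullback.snd _ _ = pullback.snd _ _ ≫ Spec.map (CommRingCat.ofHom (ψ : Ω →+* Ω))) :
    u = fibMap (bcMap φ ψ) := by
  apply pullback.hom_ext
  · rw [h1]
    unfold fibMap
    rw [Category.assoc, Category.assoc, pullbackSpecIso_inv_fst, ← Spec.map_comp,
      ← CommRingCat.ofHom_comp, ← pullbackSpecIso_hom_fst, Category.assoc, ← Spec.map_comp,
      ← CommRingCat.ofHom_comp]
    congr 3
    ext x
    exact (bcMap_left φ ψ x).symm
  · rw [h2]
    unfold fibMap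
    rw [Category.assoc, Category.assoc, pullbackSpecIso_inv_snd, ← Spec.map_comp,
      ← CommRingCat.ofHom_comp, ← pullbackSpecIso_hom_snd, Category.assoc, ← Spec.map_comp,
      ← CommRingCat.ofHom_comp]
    congr 3
    ext x
    exact (bcMap_right φ ψ x).symm

theorem galGeom_eq {K : Type u} [Field K] [Algebra R K] [Algebra K Ω] [IsScalarTower R K Ω]
    (σ : Ω ≃ₐ[K] Ω) :
    VanCyc.galGeom (Spec.map (CommRingCat.ofHom (algebraMap R A))) σ =
      fibMap (bcMap (AlgHom.id R A) ((σ : Ω →ₐ[K] Ω).restrictScalars R)) := by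
  apply eq_fibMap
  · unfold VanCyc.galGeom
    rw [pullback.map, pullback.lift_fst]
    congr 1
    exact (Spec.map_id _).symm
  · unfold VanCyc.galGeom
    rw [pullback.map, pullback.lift_snd]
    rfl

end Sch

/-! ### The statements -/

section Tau

variable (R : Type u) [CommRing R] (m : ℕ)

/-- the involution `s ↦ 1 - s` as an `R`-algebra map -/
noncomputable def tauR : stdRing R m →ₐ[R] stdRing R m :=
  (QuadAlg.tau (MvPolynomial (Fin m) R) (fun i : Fin m => MvPolynomial.X i)).restrictScalars R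

theorem tauR_x (i : Fin m) : tauR R m (sx R m i) = sx R m i :=
  (QuadAlg.tau (MvPolynomial (Fin m) R) (fun i : Fin m => MvPolynomial.X i)).commutes
    (MvPolynomial.X i)

theorem tauR_y (i : Fin m) : tauR R m (sy R m i) = sy R m i :=
  QuadAlg.tau_y (MvPolynomial (Fin m) R) (fun i : Fin m => MvPolynomial.X i) i

theorem tauR_s : tauR R m (ss R m) = 1 - ss R m :=
  QuadAlg.tau_s (MvPolynomial (Fin m) R) (fun i : Fin m => MvPolynomial.X i)

theorem fibTau_eq (Ω : Type u) [Field Ω] [Algebra R Ω] :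
    fibTau R m Ω = fibMap (bcMap (tauR R m) (AlgHom.id R Ω)) := by
  apply eq_fibMap
  · exact fibTau_fst R m Ω
  · rw [fibTau_snd]
    have h : Spec.map (CommRingCat.ofHom ((AlgHom.id R Ω : Ω →ₐ[R] Ω) : Ω →+* Ω)) = 𝟙 _ :=
      Spec.map_id _
    rw [h, Category.comp_id]

end Tau

/-- (1) the geometric generic fibre of modelEven R m b c is the one of the standard quadric -/
theorem exists_iso (R K Ω : Type u) [CommRing R] [IsDomain R] [IsLocalRing R] [Field K] [Algebra R K]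
    [IsFractionRing R K] [Field Ω] [Algebra K Ω] [Algebra R Ω] [IsScalarTower R K Ω]
    (m : ℕ) (b c : R) (α β : Ω) (h1 : α + β = - algebraMap R Ω b) (h2 : α * β = algebraMap R Ω c)
    (h3 : α ≠ β) :
    ∃ Ψ : VanCyc.fib R (modelEven R m b c) Ω ≅ VanCyc.fib R (stdStr R m) Ω,
      Ψ.hom ≫ pullback.snd _ _ = pullback.snd _ _ ∧
      (∀ σ : Ω ≃ₐ[K] Ω, σ α = α → σ β = β →
        VanCyc.galGeom (modelEven R m b c) σ ≫ Ψ.hom = Ψ.hom ≫ VanCyc.galGeom (stdStr R m) σ) ∧
      (∀ σ : Ω ≃ₐ[K] Ω, σ α = β → σ β = α →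
        VanCyc.galGeom (modelEven R m b c) σ ≫ Ψ.hom =
          Ψ.hom ≫ fibTau R m Ω ≫ VanCyc.galGeom (stdStr R m) σ) := by
  have hd : β - α ≠ 0 := sub_ne_zero.2 (Ne.symm h3)
  obtain ⟨f, fx, fy, fs⟩ := theta_core (m := m) (b := b) (c := c)
    (D := VanCyc.degQuadRing R (stdT R m) b c ⊗[R] Ω) Algebra.TensorProduct.includeLeft
    Algebra.TensorProduct.includeRight α β h1 h2 h3
  obtain ⟨f', fx', fy', fs'⟩ := eta_core (m := m) (b := b) (c := c) (D := stdRing R m ⊗[R] Ω)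
    Algebra.TensorProduct.includeLeft Algebra.TensorProduct.includeRight α β h1 h2
  obtain ⟨θ, θ1, θ2⟩ := tensor_lift f
  obtain ⟨η, η1, η2⟩ := tensor_lift f'
  have θx : ∀ i, θ (sx R m i ⊗ₜ 1) = dx R m b c (Fin.succ (lo m i)) ⊗ₜ ((β - α)⁻¹ ^ 2) := by
    intro i
    rw [θ1, fx]
    change (_ ⊗ₜ[R] (1 : Ω)) * (1 ⊗ₜ[R] (β - α)⁻¹) ^ 2 = _
    rw [Algebra.TensorProduct.tmul_pow, Algebra.TensorProduct.tmul_mul_tmul, one_pow, mul_one, one_mul]
  have θy : ∀ i, θ (sy R m i ⊗ₜ 1) = dx R m b c (Fin.succ (hi m i)) ⊗ₜ 1 := fun i => (θ1 _).trans (fy i)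
  have θs : θ (ss R m ⊗ₜ 1) = dx R m b c 0 ⊗ₜ (β - α)⁻¹ - 1 ⊗ₜ (α * (β - α)⁻¹) := by
    rw [θ1, fs]
    simp only [Algebra.TensorProduct.includeLeft_apply, Algebra.TensorProduct.includeRight_apply,
      Algebra.TensorProduct.tmul_mul_tmul, mul_one, one_mul]
  have ηl : ∀ i, η (dx R m b c (Fin.succ (lo m i)) ⊗ₜ 1) = sx R m i ⊗ₜ ((β - α) ^ 2) := by
    intro i
    rw [η1, fx']
    change (_ ⊗ₜ[R] (1 : Ω)) * (1 ⊗ₜ[R] (β - α)) ^ 2 = _
    rw [Algebra.TensorProduct.tmul_pow, Algebra.TensorProduct.tmul_mul_tmul, one_pow, mul_one, one_mul]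
  have ηh : ∀ i, η (dx R m b c (Fin.succ (hi m i)) ⊗ₜ 1) = sy R m i ⊗ₜ 1 :=
    fun i => (η1 _).trans (fy' i)
  have η0 : η (dx R m b c 0 ⊗ₜ 1) = 1 ⊗ₜ α + ss R m ⊗ₜ (β - α) := by
    rw [η1, fs']
    change (1 ⊗ₜ[R] α) + (_ ⊗ₜ[R] (1 : Ω)) * (1 ⊗ₜ[R] (β - α)) = _
    rw [Algebra.TensorProduct.tmul_mul_tmul, mul_one, one_mul]
  -- general elements
  have gen : ∀ {A B : Type u} [CommRing A] [Algebra R A] [CommRing B] [Algebra R B]
      (g : A ⊗[R] Ω →ₐ[R] B ⊗[R] Ω) (a : A) (w : Ω), g (a ⊗ₜ w) = g (a ⊗ₜ 1) * g (1 ⊗ₜ w) := by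
    intro A B _ _ _ _ g a w
    rw [← map_mul, Algebra.TensorProduct.tmul_mul_tmul, mul_one, one_mul]
  have hθη : θ.comp η = AlgHom.id R _ := by
    apply Algebra.TensorProduct.ext
    · apply deg_ext
      · change θ (η (dx R m b c 0 ⊗ₜ 1)) = dx R m b c 0 ⊗ₜ 1
        rw [η0, map_add, θ2, gen θ (ss R m), θs, θ2, sub_mul, Algebra.TensorProduct.tmul_mul_tmul,
          Algebra.TensorProduct.tmul_mul_tmul, mul_one, mul_one, mul_assoc, inv_mul_cancel₀ hd,
          mul_one, add_sub_cancel]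
      · intro i
        change θ (η (dx R m b c (Fin.succ (lo m i)) ⊗ₜ 1)) = dx R m b c (Fin.succ (lo m i)) ⊗ₜ 1
        rw [ηl, gen θ (sx R m i), θx, θ2, Algebra.TensorProduct.tmul_mul_tmul, mul_one, ← mul_pow,
          inv_mul_cancel₀ hd, one_pow]
      · intro i
        change θ (η (dx R m b c (Fin.succ (hi m i)) ⊗ₜ 1)) = dx R m b c (Fin.succ (hi m i)) ⊗ₜ 1
        rw [ηh, θy]
    · ext w
      change θ (η (1 ⊗ₜ w)) = 1 ⊗ₜ w
      rw [η2, θ2]
  have hηθ : η.comp θ = AlgHom.id R _ := by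
    apply Algebra.TensorProduct.ext
    · apply std_ext
      · intro i
        change η (θ (sx R m i ⊗ₜ 1)) = sx R m i ⊗ₜ 1
        rw [θx, gen η (dx R m b c _), ηl, η2, Algebra.TensorProduct.tmul_mul_tmul, mul_one, ← mul_pow,
          mul_inv_cancel₀ hd, one_pow]
      · intro i
        change η (θ (sy R m i ⊗ₜ 1)) = sy R m i ⊗ₜ 1
        rw [θy, ηh]
      · change η (θ (ss R m ⊗ₜ 1)) = ss R m ⊗ₜ 1
        rw [θs, map_sub, η2, gen η (dx R m b c _), η0, η2, add_mul,
          Algebra.TensorProduct.tmul_mul_tmul, Algebra.TensorProduct.tmul_mul_tmul, mul_one, mul_one,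
          mul_inv_cancel₀ hd, add_sub_cancel_left]
    · ext w
      change η (θ (1 ⊗ₜ w)) = 1 ⊗ₜ w
      rw [θ2, η2]
  let Ψ : VanCyc.fib R (modelEven R m b c) Ω ≅ VanCyc.fib R (stdStr R m) Ω :=
    { hom := fibMap θ
      inv := fibMap η
      hom_inv_id := by rw [fibMap_comp, hθη, fibMap_id]
      inv_hom_id := by rw [fibMap_comp, hηθ, fibMap_id] }
  refine ⟨Ψ, fibMap_snd θ θ2, fun σ hα hβ => ?_, fun σ hα hβ => ?_⟩
  · change VanCyc.galGeom _ σ ≫ fibMap θ = fibMap θ ≫ VanCyc.galGeom _ σ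
    rw [galGeom_eq, galGeom_eq, fibMap_comp, fibMap_comp]
    congr 1
    have hδ : σ (β - α) = β - α := by rw [map_sub, hα, hβ]
    have hδ' : σ (β - α)⁻¹ = (β - α)⁻¹ := by rw [map_inv₀, hδ]
    apply Algebra.TensorProduct.ext
    · apply std_ext
      · intro i
        change bcMap _ _ (θ (sx R m i ⊗ₜ 1)) = θ (bcMap _ _ (sx R m i ⊗ₜ 1))
        rw [bcMap_left, θx, gen (bcMap _ _) (dx R m b c _), bcMap_left, bcMap_right,
          Algebra.TensorProduct.tmul_mul_tmul, mul_one, one_mul]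
        change _ = θ (sx R m i ⊗ₜ 1)
        rw [θx]
        change dx R m b c (Fin.succ (lo m i)) ⊗ₜ[R] (σ ((β - α)⁻¹ ^ 2)) = _
        rw [map_pow, hδ']
      · intro i
        change bcMap _ _ (θ (sy R m i ⊗ₜ 1)) = θ (bcMap _ _ (sy R m i ⊗ₜ 1))
        rw [bcMap_left, θy, bcMap_left]
        change _ = θ (sy R m i ⊗ₜ 1)
        rw [θy]
        rfl
      · change bcMap _ _ (θ (ss R m ⊗ₜ 1)) = θ (bcMap _ _ (ss R m ⊗ₜ 1))
        rw [bcMap_left, θs, map_sub, gen (bcMap _ _) (dx R m b c _), bcMap_left, bcMap_right,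
          bcMap_right, Algebra.TensorProduct.tmul_mul_tmul, mul_one, one_mul]
        change _ = θ (ss R m ⊗ₜ 1)
        rw [θs]
        change dx R m b c 0 ⊗ₜ[R] (σ (β - α)⁻¹) - 1 ⊗ₜ[R] (σ (α * (β - α)⁻¹)) = _
        rw [map_mul, hδ', hα]
    · ext w
      change bcMap _ _ (θ (1 ⊗ₜ w)) = θ (bcMap _ _ (1 ⊗ₜ w))
      rw [θ2, bcMap_right, bcMap_right, θ2]
  · change VanCyc.galGeom _ σ ≫ fibMap θ = fibMap θ ≫ fibTau R m Ω ≫ VanCyc.galGeom _ σ
    rw [galGeom_eq, galGeom_eq, fibTau_eq, fibMap_comp, fibMap_comp, fibMap_comp]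
    congr 1
    have hδ : σ (β - α) = -(β - α) := by rw [map_sub, hα, hβ, neg_sub]
    have hδ' : σ (β - α)⁻¹ = -(β - α)⁻¹ := by rw [map_inv₀, hδ, inv_neg]
    apply Algebra.TensorProduct.ext
    · apply std_ext
      · intro i
        change bcMap _ _ (θ (sx R m i ⊗ₜ 1)) = θ (bcMap _ _ (bcMap _ _ (sx R m i ⊗ₜ 1)))
        rw [bcMap_left, bcMap_left, θx, gen (bcMap _ _) (dx R m b c _), bcMap_left, bcMap_right,
          Algebra.TensorProduct.tmul_mul_tmul, mul_one, one_mul]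
        change _ = θ (tauR R m (sx R m i) ⊗ₜ 1)
        rw [tauR_x, θx]
        change dx R m b c (Fin.succ (lo m i)) ⊗ₜ[R] (σ ((β - α)⁻¹ ^ 2)) = _
        rw [map_pow, hδ', neg_sq]
      · intro i
        change bcMap _ _ (θ (sy R m i ⊗ₜ 1)) = θ (bcMap _ _ (bcMap _ _ (sy R m i ⊗ₜ 1)))
        rw [bcMap_left, θy, bcMap_left, bcMap_left]
        change _ = θ (tauR R m (sy R m i) ⊗ₜ 1)
        rw [tauR_y, θy]
        rfl
      · change bcMap _ _ (θ (ss R m ⊗ₜ 1)) = θ (bcMap _ _ (bcMap _ _ (ss R m ⊗ₜ 1)))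
        rw [bcMap_left, bcMap_left, θs, map_sub, gen (bcMap _ _) (dx R m b c _), bcMap_left,
          bcMap_right, bcMap_right, Algebra.TensorProduct.tmul_mul_tmul, mul_one, one_mul]
        change _ = θ (tauR R m (ss R m) ⊗ₜ 1)
        rw [tauR_s, TensorProduct.sub_tmul, map_sub, θs, θ2]
        change dx R m b c 0 ⊗ₜ[R] (σ (β - α)⁻¹) - 1 ⊗ₜ[R] (σ (α * (β - α)⁻¹)) = _
        rw [map_mul, hδ', hα, TensorProduct.tmul_neg, mul_neg, TensorProduct.tmul_neg]
        have h4 : (β * (β - α)⁻¹ : Ω) = 1 + α * (β - α)⁻¹ := by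
          field_simp
          ring
        rw [h4, TensorProduct.tmul_add]
        ring
    · ext w
      change bcMap _ _ (θ (1 ⊗ₜ w)) = θ (bcMap _ _ (bcMap _ _ (1 ⊗ₜ w)))
      rw [θ2, bcMap_right, bcMap_right, bcMap_right, θ2]
      rfl

/-! ### Square roots -/

/-- a unit of a strictly henselian local ring with `2` invertible is a square -/
theorem exists_sq_unit {B : Type u} [CommRing B] [HenselianLocalRing B]
    [IsSepClosed (IsLocalRing.ResidueField B)] (h2 : IsUnit (2 : B)) (u : B) (hu : IsUnit u) :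
    ∃ w : B, w ^ 2 = u := by
  have hlk : (2 : IsLocalRing.ResidueField B) ≠ 0 := by
    have := h2.map (IsLocalRing.residue B)
    rw [map_ofNat] at this
    exact this.ne_zero
  have : NeZero (2 : IsLocalRing.ResidueField B) := ⟨hlk⟩
  obtain ⟨z, hz⟩ := IsSepClosed.exists_eq_mul_self (IsLocalRing.residue B u)
  obtain ⟨a₀, ha₀⟩ := IsLocalRing.residue_surjective z
  have hz0 : z ≠ 0 := by
    rintro rfl
    rw [mul_zero] at hz
    exact (hu.map (IsLocalRing.residue B)).ne_zero hz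
  have ha₀u : IsUnit a₀ := by
    rw [← IsLocalRing.residue_ne_zero_iff_isUnit, ha₀]; exact hz0
  obtain ⟨w, hw, -⟩ := HenselianLocalRing.is_henselian
    (Polynomial.X ^ 2 - Polynomial.C u : Polynomial B)
    (Polynomial.monic_X_pow_sub_C u two_ne_zero) a₀ (by
      rw [← IsLocalRing.residue_eq_zero_iff]
      simp [ha₀, hz, sq]) (by
      rw [Polynomial.derivative_sub, Polynomial.derivative_X_pow, Polynomial.derivative_C, sub_zero,
        Polynomial.eval_mul, Polynomial.eval_C, Polynomial.eval_pow, Polynomial.eval_X]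
      exact IsUnit.mul (by exact_mod_cast h2) (ha₀u.pow _))
  refine ⟨w, ?_⟩
  have h3 : (Polynomial.X ^ 2 - Polynomial.C u : Polynomial B).eval w = 0 := hw
  rw [Polynomial.eval_sub, Polynomial.eval_pow, Polynomial.eval_X, Polynomial.eval_C, sub_eq_zero] at h3
  exact h3

/-- (2') existence of the square root -/
theorem exists_sq (R K Ω : Type u) [CommRing R] [IsDomain R] [IsDiscreteValuationRing R]
    [Field K] [Algebra R K] [IsFractionRing R K] [Field Ω]
    [Algebra K Ω] [IsSepClosure K Ω] [Algebra R Ω] [IsScalarTower R K Ω]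
    (h2 : IsUnit (2 : R)) (b : R) (hb : b ≠ 0) : ∃ β : Ω, β ≠ 0 ∧ β ^ 2 = algebraMap R Ω b := by
  have : IsSepClosed Ω := IsSepClosure.sep_closed K
  have h2Ω : (2 : Ω) ≠ 0 := by
    have := h2.map (algebraMap R Ω)
    rw [map_ofNat] at this
    exact this.ne_zero
  have : NeZero (2 : Ω) := ⟨h2Ω⟩
  obtain ⟨z, hz⟩ := IsSepClosed.exists_eq_mul_self (algebraMap R Ω b)
  refine ⟨z, ?_, by rw [hz, sq]⟩
  rintro rfl
  rw [mul_zero, IsScalarTower.algebraMap_apply R K Ω, map_eq_zero_iff _ (algebraMap K Ω).injective,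
    map_eq_zero_iff _ (IsFractionRing.injective R K)] at hz
  exact hb hz

/-- (2) the sign of σ on a square root of w t^v -/
theorem quadChar_pow (R K Ω : Type u) [CommRing R] [IsDomain R] [IsDiscreteValuationRing R]
    (hR : EtCoh.IsStrictlyHenselianLocalRing R) [Field K] [Algebra R K] [IsFractionRing R K] [Field Ω]
    [Algebra K Ω] [IsSepClosure K Ω] [Algebra R Ω] [IsScalarTower R K Ω]
    (h2 : IsUnit (2 : R)) (t : R) (ht : Irreducible t) (w : Rˣ) (v : ℕ) (σ : Ω ≃ₐ[K] Ω) (β : Ω)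
    (hβ : β ^ 2 = algebraMap R Ω ((w : R) * t ^ v)) :
    (σ β = β ∧ (VanCyc.quadChar (algebraMap R K t) σ) ^ v = 1) ∨
      (σ β = - β ∧ (VanCyc.quadChar (algebraMap R K t) σ) ^ v = -1) := by
  have h2Ω : (2 : Ω) ≠ 0 := by
    have := h2.map (algebraMap R Ω)
    rw [map_ofNat] at this
    exact this.ne_zero
  obtain ⟨hH, hS⟩ := hR
  obtain ⟨u, hu⟩ := exists_sq_unit h2 (w : R) w.isUnit
  obtain ⟨r, hr0, hr⟩ := exists_sq R K Ω h2 t ht.ne_zero
  have hσR : ∀ x : R, σ (algebraMap R Ω x) = algebraMap R Ω x := fun x => by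
    rw [IsScalarTower.algebraMap_apply R K Ω]
    exact σ.commutes _
  -- the sign of `σ` on `r`
  have hσr : (σ r = r ∧ VanCyc.quadChar (algebraMap R K t) σ = 1) ∨
      (σ r = -r ∧ VanCyc.quadChar (algebraMap R K t) σ = -1) := by
    have h1 : σ r ^ 2 = r ^ 2 := by rw [← map_pow, hr, hσR]
    rcases sq_eq_sq_iff_eq_or_eq_neg.1 h1 with h | h
    · refine Or.inl ⟨h, ?_⟩
      unfold VanCyc.quadChar
      rw [if_pos]
      intro r' hr'
      rw [← IsScalarTower.algebraMap_apply, ← hr, ← sq] at hr'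
      rcases sq_eq_sq_iff_eq_or_eq_neg.1 hr' with h' | h'
      · rw [h', h]
      · rw [h', map_neg, h]
    · refine Or.inr ⟨h, ?_⟩
      unfold VanCyc.quadChar
      rw [if_neg]
      intro hall
      have h3 := hall r (by rw [← IsScalarTower.algebraMap_apply, ← hr, ← sq])
      rw [h] at h3
      have h4 : (2 : Ω) * r = 0 := by linear_combination -h3
      exact (mul_ne_zero h2Ω hr0) h4
  -- `β = ± u r ^ v`
  have hb : β ^ 2 = (algebraMap R Ω u * r ^ v) ^ 2 := by
    rw [hβ, mul_pow, ← pow_mul, mul_comm v 2, pow_mul, hr, map_mul, map_pow, ← hu, map_pow]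
  have hσu : σ (algebraMap R Ω u * r ^ v) = algebraMap R Ω u * (σ r) ^ v := by
    rw [map_mul, map_pow, hσR]
  have key : (σ (algebraMap R Ω u * r ^ v) = algebraMap R Ω u * r ^ v ∧
      (VanCyc.quadChar (algebraMap R K t) σ) ^ v = 1) ∨
      (σ (algebraMap R Ω u * r ^ v) = - (algebraMap R Ω u * r ^ v) ∧
        (VanCyc.quadChar (algebraMap R K t) σ) ^ v = -1) := by
    rw [hσu]
    rcases hσr with ⟨h, hq⟩ | ⟨h, hq⟩
    · exact Or.inl ⟨by rw [h], by rw [hq, one_pow]⟩
    · rw [h, hq]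
      rcases Nat.even_or_odd v with he | ho
      · exact Or.inl ⟨by rw [he.neg_pow], he.neg_one_pow⟩
      · exact Or.inr ⟨by rw [ho.neg_pow, mul_neg], ho.neg_one_pow⟩
  rcases sq_eq_sq_iff_eq_or_eq_neg.1 hb with h | h
  · rw [h]
    exact key
  · rw [h, map_neg]
    rcases key with ⟨k1, k2⟩ | ⟨k1, k2⟩
    · exact Or.inl ⟨by rw [k1], k2⟩
    · exact Or.inr ⟨by rw [k1], k2⟩

end Groth.Agent.Vancyc.H178.QuadFib
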